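import Mathlib.CategoryTheory.Abelian.Injective.Resolution
import Mathlib.Algebra.Homology.DerivedCategory.Ext.EnoughInjectives
import Mathlib.Algebra.Homology.DerivedCategory.Ext.ExactSequences

/-! # Ext one into a product -/

set_option autoImplicit false
set_option linter.all false

universe w v u u'

open CategoryTheory CategoryTheory.Limits CategoryTheory.Abelian

namespace Groth.Agent.ExtLib

variable {A : Type u} [Category.{v} A] [Abelian A] [EnoughInjectives A] [HasExt.{w} A]

theorem ext_one_into_pi_eq_zero {I : Type u'} (F : I → A) [HasProduct F]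
    [HasProduct fun i => Injective.under (F i)] {P : A} (x : Ext.{w} P (∏ᶜ F) 1)
    (hx : ∀ i, x.comp (Ext.mk₀ (Pi.π F i)) (add_zero 1) = 0) : x = 0 := by
  let J := fun i => Injective.under (F i)
  let ι : ∏ᶜ F ⟶ ∏ᶜ J := Limits.Pi.map fun i => Injective.ι (F i)
  haveI : Mono ι := inferInstance
  let S := ShortComplex.mk ι (cokernel.π ι) (cokernel.condition ι)
  have hS : S.ShortExact :=
    { exact := ShortComplex.exact_of_g_is_cokernel _ (cokernelIsCokernel ι)
      mono_f := inferInstanceAs (Mono ι)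
      epi_g := inferInstanceAs (Epi (cokernel.π ι)) }
  let T := fun i => ShortComplex.mk (Injective.ι (F i)) (cokernel.π (Injective.ι (F i))) (cokernel.condition _)
  have hT : ∀ i, (T i).ShortExact := fun i =>
    { exact := ShortComplex.exact_of_g_is_cokernel _ (cokernelIsCokernel _)
      mono_f := inferInstanceAs (Mono (Injective.ι (F i)))
      epi_g := inferInstanceAs (Epi (cokernel.π _)) }
  let φ : ∀ i, cokernel ι ⟶ cokernel (Injective.ι (F i)) := fun i =>
    cokernel.map ι (Injective.ι (F i)) (Pi.π F i) (Pi.π J i) (by simp [ι, J])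
  let m : ∀ i, S ⟶ T i := fun i => ShortComplex.homMk (Pi.π F i) (Pi.π J i) (φ i)
    (by simp [S, T, ι, J]) (by simp [S, T, φ])
  obtain ⟨q, hq⟩ := Ext.covariant_sequence_exact₁ P hS x
    (Ext.eq_zero_of_injective _) (rfl : 0 + 1 = 1)
  obtain ⟨q, rfl⟩ := Ext.addEquiv₀.symm.surjective q
  change (Ext.mk₀ q).comp hS.extClass _ = x at hq
  subst hq
  have hy : ∀ i, ∃ y : P ⟶ J i, y ≫ cokernel.π (Injective.ι (F i)) = q ≫ φ i := by
    intro i
    have h1 := hx i
    rw [Ext.comp_assoc_of_third_deg_zero, ← show (Ext.mk₀ (φ i)).comp (hT i).extClass (zero_add 1) =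
      hS.extClass.comp (Ext.mk₀ (Pi.π F i)) (add_zero 1) from (ShortComplex.ShortExact.extClass_naturality hS (hT i) (m i)).symm] at h1
    rw [← Ext.comp_assoc _ _ _ (zero_add 0) (zero_add 1) (by omega), Ext.mk₀_comp_mk₀] at h1
    obtain ⟨y, hy⟩ := Ext.covariant_sequence_exact₃ P (hT i) (Ext.mk₀ (q ≫ φ i)) rfl h1
    obtain ⟨y, rfl⟩ := Ext.addEquiv₀.symm.surjective y
    refine ⟨y, (Ext.mk₀_bijective _ _).1 ?_⟩
    rw [← hy]
    exact (Ext.mk₀_comp_mk₀ _ _).symm
  choose y hy using hy
  have key : q = Pi.lift y ≫ cokernel.π ι := by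
    rw [← sub_eq_zero]
    set r := q - Pi.lift y ≫ cokernel.π ι
    have hr : ∀ i, r ≫ φ i = 0 := fun i => by
      simp [r, φ, hy, J, sub_eq_zero]
    rw [← cancel_epi (pullback.snd (cokernel.π ι) r), comp_zero, ← pullback.condition]
    have hz : ∀ i, (pullback.fst (cokernel.π ι) r ≫ Pi.π J i) ≫ cokernel.π (Injective.ι (F i)) = 0 := by
      intro i
      have h2 : Pi.π J i ≫ cokernel.π (Injective.ι (F i)) = cokernel.π ι ≫ φ i := by simp [φ]
      rw [Category.assoc, h2, ← Category.assoc, pullback.condition, Category.assoc, hr, comp_zero]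
    have : pullback.fst (cokernel.π ι) r =
        Pi.lift (fun i => Abelian.monoLift (Injective.ι (F i)) _ (hz i)) ≫ ι := by
      apply Pi.hom_ext
      intro i
      simp [ι, J]
    rw [this, Category.assoc, cokernel.condition, comp_zero]
  subst key
  rw [← Ext.mk₀_comp_mk₀, Ext.comp_assoc _ _ _ (zero_add 0) (zero_add 1) (by omega),
    show (Ext.mk₀ (cokernel.π ι)).comp hS.extClass (zero_add 1) = 0 from hS.comp_extClass,
    Ext.comp_zero]

end Groth.Agent.ExtLib
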